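import Groth.Agent.WeilCmp.UnipPts
import Groth.Agent.AGFLib.QuotProper
import Groth.Agent.GrpSchLib.HomogeneousQuot
import Groth.Agent.ComodLib.StableClosed
import Groth.Agent.ChevAffine.Main

/-! Homogeneous spaces of groups with unipotent rational points are affine. -/

set_option backward.isDefEq.respectTransparency false
set_option backward.isDefEq.respectTransparency.types false
set_option linter.style.haveILetI false

universe u

open CategoryTheory MonoidalCategory CartesianMonoidalCategory MonObj AlgebraicGeometry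

namespace Groth.Agent.WeilCmp.Unip

open GrpSchLib GrpSchLib.Kunneth GrpSchLib.LineGroups AGFLib AGFLib.Gen AGFLib.BorelFixed

variable {k : Type u} [Field k]

local notation "PT" => 𝟙_ (Over (Spec (CommRingCat.of k)))

/-- Rational points of a scheme locally of finite type are closed. -/
theorem isClosed_cp' {Z : Over (Spec (CommRingCat.of k))} [LocallyOfFiniteType Z.hom] (g : PT ⟶ Z) :
    IsClosed ({cp g} : Set Z.left) := by
  haveI : LocallyOfFiniteType (g.left ≫ Z.hom) := by
    rw [Over.w g]; exact MorphismProperty.id_mem @LocallyOfFiniteType _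
  haveI : LocallyOfFiniteType g.left := locallyOfFiniteType_of_comp g.left Z.hom
  haveI : JacobsonSpace Z.left := LocallyOfFiniteType.jacobsonSpace Z.hom
  haveI : JacobsonSpace (𝟙_ (Over (Spec (CommRingCat.of k)))).left :=
    inferInstanceAs (JacobsonSpace (PrimeSpectrum k))
  exact mem_closedPoints_iff.mp (g.left.closePoints_subset_preimage_closedPoints (mem_closedPoints_iff.mpr
    (isClosed_discrete (α := ↥(Spec (CommRingCat.of k))) {IsLocalRing.closedPoint k})))

/-- A morphism from a reduced scheme with values in a rational point is constant. -/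
theorem eq_const_of_range {T Z : Over (Spec (CommRingCat.of k))} [IsReduced T.left] [LocallyOfFiniteType Z.hom]
    (g : PT ⟶ Z) (f : T ⟶ Z) (h : Set.range f.left ⊆ {cp g}) : f = toUnit T ≫ g := by
  haveI : IsImmersion (g.left ≫ Z.hom) := by rw [Over.w g]; exact inferInstanceAs (IsImmersion (𝟙 _))
  haveI : IsImmersion g.left := IsImmersion.of_comp g.left Z.hom
  have hr : Set.range g.left = {cp g} := by
    refine Set.eq_singleton_iff_unique_mem.mpr ⟨⟨_, rfl⟩, ?_⟩
    rintro _ ⟨z, rfl⟩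
    exact congrArg g.left (@Subsingleton.elim ↥(Spec (CommRingCat.of k)) inferInstance _ _)
  haveI : IsClosedImmersion g.left := IsClosedImmersion.of_isPreimmersion g.left (hr ▸ isClosed_cp' g)
  obtain ⟨c, hc⟩ := H23.RedSub.exists_lift_closed f.left g.left (hr.symm ▸ h)
  let c' : T ⟶ PT := Over.homMk c (by rw [← Over.w g, reassoc_of% hc, Over.w f])
  have : c' ≫ g = f := Over.OverMorphism.ext hc
  rw [← this, toUnit_unique c' (toUnit T)]

variable [IsAlgClosed k]

/-- An injective equivariant map out of a homogeneous scheme with closed image is finite. -/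
theorem isFinite_of_equivariant {X Y : Over (Spec (CommRingCat.of k))} [LocallyOfFiniteType X.hom]
    [QuasiCompact X.hom] [IsSeparated X.hom] [Nonempty X.left] [LocallyOfFiniteType Y.hom] (m : X ⟶ Y)
    (hinj : ∀ y₁ y₂ : PT ⟶ X, y₁ ≫ m = y₂ ≫ m → y₁ = y₂) (hrange : IsClosed (Set.range m.left))
    (htr : ∀ y y₀ : PT ⟶ X, ∃ (S : X ≅ X) (T : Y ≅ Y), S.hom ≫ m = m ≫ T.hom ∧ y ≫ S.hom = y₀) :
    IsFinite m.left := by
  haveI : IsLocallyNoetherian Y.left := LocallyOfFiniteType.isLocallyNoetherian Y.hom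
  haveI : QuasiSeparated Y.hom := (quasiSeparated_iff_quasiSeparatedSpace Y.hom).mpr inferInstance
  haveI : LocallyOfFiniteType (m.left ≫ Y.hom) := by rw [Over.w m]; infer_instance
  haveI : LocallyOfFiniteType m.left := locallyOfFiniteType_of_comp m.left Y.hom
  haveI : QuasiCompact (m.left ≫ Y.hom) := by rw [Over.w m]; infer_instance
  haveI : QuasiCompact m.left := QuasiCompact.of_comp m.left Y.hom
  haveI : JacobsonSpace X.left := LocallyOfFiniteType.jacobsonSpace X.hom
  haveI : LocallyQuasiFinite m.left := by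
    rw [← Scheme.Hom.quasiFiniteLocus_eq_top_iff, eq_top_iff]
    intro z _
    by_contra hz
    obtain ⟨y, hy1, hy⟩ := nonempty_inter_closedPoints
      (Z := (m.left.quasiFiniteLocus : Set X.left)ᶜ) ⟨z, hz⟩
      m.left.quasiFiniteLocus.isOpen.isClosed_compl.isLocallyClosed
    refine hy1 ?_
    rw [SetLike.mem_coe, Scheme.Hom.mem_quasiFiniteLocus,
      Scheme.Hom.quasiFiniteAt_iff_isOpen_singleton_asFiber]
    obtain ⟨y', rfl⟩ := exists_cp hy
    have hsub : m.left ⁻¹' {m.left (cp y')} ⊆ {cp y'} := by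
      intro w hw
      by_contra hne
      obtain ⟨v, ⟨hv1, hv2⟩, hv⟩ := nonempty_inter_closedPoints
        (Z := m.left ⁻¹' {m.left (cp y')} \ {cp y'}) ⟨w, hw, hne⟩
        (((isClosed_cp' (y' ≫ m)).preimage m.left.continuous).isLocallyClosed.inter
          (isClosed_cp' y').isOpen_compl.isLocallyClosed)
      obtain ⟨v', rfl⟩ := exists_cp hv
      exact hv2 (congrArg cp (hinj v' y' (cp_injective hv1)))
    haveI : Finite ↥(m.left ⁻¹' {m.left (cp y')}) := ((Set.finite_singleton _).subset hsub).to_subtype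
    haveI : Finite (m.left.fiber (m.left (cp y'))) :=
      Finite.of_equiv _ (m.left.fiberHomeo (m.left (cp y'))).symm.toEquiv
    exact isOpen_discrete _
  refine isFinite_of_homogeneous m hrange fun z z₀ hz hz₀ => ?_
  obtain ⟨y, rfl⟩ := exists_cp hz
  obtain ⟨y₀, rfl⟩ := exists_cp hz₀
  obtain ⟨S, T, h1, h2⟩ := htr y y₀
  exact ⟨(Over.forget _).mapIso S, (Over.forget _).mapIso T, congrArg CommaMorphism.left h1, congrArg cp h2⟩

variable {U : Over (Spec (CommRingCat.of k))} [GrpObj U]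

omit [GrpObj U] in
/-- Maps into the spectrum of a generated algebra of functions agree if they agree on the generators. -/
theorem sp_hom_ext {ι₀ : Type} (z : ι₀ → Fn U) {w w' : PT ⟶ AffineHopf.sp k (Algebra.adjoin k (Set.range z))}
    (h : ∀ x, vl w (spEquiv (k := k) _ ⟨z x, Algebra.subset_adjoin ⟨x, rfl⟩⟩) =
      vl w' (spEquiv (k := k) _ ⟨z x, Algebra.subset_adjoin ⟨x, rfl⟩⟩)) : w = w' := by
  have key : ∀ b : Algebra.adjoin k (Set.range z), vl w (spEquiv (k := k) _ b) = vl w' (spEquiv (k := k) _ b) := by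
    have hle : Algebra.adjoin k (Set.range z) ≤
        Subalgebra.map (Algebra.adjoin k (Set.range z)).val (AlgHom.equalizer
          ((vl w).comp (spEquiv (k := k) _).toAlgHom) ((vl w').comp (spEquiv (k := k) _).toAlgHom)) :=
      Algebra.adjoin_le (by rintro _ ⟨x, rfl⟩; exact ⟨⟨z x, Algebra.subset_adjoin ⟨x, rfl⟩⟩, h x, rfl⟩)
    intro b
    obtain ⟨b', hb', hbb⟩ := hle b.2
    obtain rfl : b' = b := Subtype.ext hbb
    exact hb'
  haveI : IsAffine (AffineHopf.sp k (Algebra.adjoin k (Set.range z))).left := isAffine_Spec _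
  refine ext_ev (AlgHom.ext fun s => ?_)
  obtain ⟨b, rfl⟩ := (spEquiv (k := k) _).surjective s
  exact (ProjAct.toK (k := k)).injective (key b)

omit [GrpObj U] in
/-- A map to the spectrum of an algebra of functions is surjective if it is so on rational points. -/
theorem surjective_of_pts [LocallyOfFiniteType U.hom] [QuasiCompact U.hom] (B : Type u) [CommRing B] [Algebra k B]
    [Algebra.FiniteType k B] (f : U ⟶ AffineHopf.sp k B) (h : ∀ t : PT ⟶ AffineHopf.sp k B, ∃ g, g ≫ f = t) :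
    Function.Surjective f.left := by
  haveI : IsJacobsonRing B := isJacobsonRing_of_finiteType (A := k)
  haveI : LocallyOfFiniteType (AffineHopf.sp k B).hom := (HasRingHomProperty.Spec_iff (P := @LocallyOfFiniteType)).mpr
    (RingHom.finiteType_algebraMap.mpr inferInstance)
  haveI : LocallyOfFiniteType (f.left ≫ (AffineHopf.sp k B).hom) := by rw [Over.w f]; infer_instance
  haveI : LocallyOfFiniteType f.left := locallyOfFiniteType_of_comp f.left (AffineHopf.sp k B).hom
  haveI : IsLocallyNoetherian (AffineHopf.sp k B).left :=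
    LocallyOfFiniteType.isLocallyNoetherian (AffineHopf.sp k B).hom
  haveI : QuasiCompact (f.left ≫ (AffineHopf.sp k B).hom) := by rw [Over.w f]; infer_instance
  haveI : QuasiCompact f.left := QuasiCompact.of_comp f.left (AffineHopf.sp k B).hom
  haveI : IsAffine (AffineHopf.sp k B).left := isAffine_Spec _
  have hcons : Topology.IsConstructible (f.left '' Set.univ) :=
    f.left.isConstructible_image Topology.IsConstructible.univ
  intro s
  by_contra hs
  obtain ⟨c, hc1, hc2⟩ := ComodLib.exists_closedPoint_of_isConstructible (S := B) hcons.compl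
    ⟨s, by simpa using hs⟩
  obtain ⟨t, ht⟩ := exists_cp (Z := AffineHopf.sp k B) (z := c) (mem_closedPoints_iff.mp hc2)
  obtain ⟨g, hg⟩ := h t
  exact hc1 ⟨cp g, trivial, by rw [← cp_comp, hg, ht]⟩

/-- A quotient with an invariant separating vector of functions is affine. -/
theorem isAffine_of_vec [IsAffine U.left] [LocallyOfFiniteType U.hom] [IsReduced U.left] {X₁ D : Over (Spec (CommRingCat.of k))}
    [GrpObj D] [LocallyOfFiniteType X₁.hom] [QuasiCompact X₁.hom] [IsSeparated X₁.hom] [Nonempty X₁.left]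
    [IsReduced (U ⊗ D).left] [LocallyOfFiniteType (U ⊗ D).hom]
    (i : D ⟶ U) (p : U ⟶ X₁) [Epi p] (q : ℕ) (htor : ∀ y : PT ⟶ U, y ^ q = 1)
    (hnil : ∀ (R : Type u) [Ring R] [Algebra k R] (x : R), x ^ q = 1 → IsNilpotent (x - 1))
    (hdesc : ∀ {Y : Over (Spec (CommRingCat.of k))} (f : U ⟶ Y),
      ((U ◁ i) ≫ μ[U]) ≫ f = fst U D ≫ f → ∃ f' : X₁ ⟶ Y, p ≫ f' = f)
    (hpts : ∀ y : PT ⟶ X₁, ∃ g : PT ⟶ U, g ≫ p = y)
    (hp : ∀ g g' : PT ⟶ U, (∃ l : PT ⟶ D, l ≫ i = g⁻¹ * g') → g ≫ p = g' ≫ p)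
    (htrans : ∀ y y₀ : PT ⟶ X₁, ∃ (h : PT ⟶ U) (S : X₁ ≅ X₁), ((toUnit U ≫ h) * 𝟙 U) ≫ p = p ≫ S.hom ∧
      y ≫ S.hom = y₀)
    {ι₀ : Type} [Fintype ι₀] (z : ι₀ → Fn U) (M : ι₀ → ι₀ → Fn U)
    (hzM : ∀ (g h : PT ⟶ U) (x : ι₀), vl (g * h) (z x) = ∑ s, vl g (M x s) * vl h (z s))
    (hzinv : ∀ (g : PT ⟶ U) (l : PT ⟶ D) x, vl (g * (l ≫ i)) (z x) = vl g (z x))
    (hzL : ∀ h : PT ⟶ U, (∀ x, vl h (z x) = vl 1 (z x)) → ∃ l : PT ⟶ D, l ≫ i = h) :
    IsAffine X₁.left := by
  classical
  haveI : QuasiCompact U.hom := inferInstance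
  let B : Subalgebra k (Fn U) := Algebra.adjoin k (Set.range z)
  have hBfg : B.FG := Subalgebra.fg_def.mpr ⟨Set.range z, Set.finite_range z, rfl⟩
  have hBlt : ∀ (y : PT ⟶ U), ∀ f ∈ B, lt y f ∈ B := fun y => by
    have : B ≤ B.comap (lt y) := Algebra.adjoin_le (by
      rintro _ ⟨x, rfl⟩
      have : lt y (z x) = ∑ s, vl y (M x s) • z s := eq_of_vl fun g => by
        rw [vl_lt, hzM, map_sum]
        exact Finset.sum_congr rfl fun s _ => by rw [map_smul, smul_eq_mul]
      show lt y (z x) ∈ B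
      rw [this]
      exact Subalgebra.sum_mem _ fun s _ => B.smul_mem (Algebra.subset_adjoin ⟨s, rfl⟩) _)
    exact this
  haveI : Algebra.FiniteType k B := (Subalgebra.fg_iff_finiteType B).mp hBfg
  haveI : IsNoetherianRing B := Algebra.FiniteType.isNoetherianRing k B
  haveI : IsAffine (AffineHopf.sp k B).left := isAffine_Spec _
  haveI : LocallyOfFiniteType (AffineHopf.sp k B).hom := (HasRingHomProperty.Spec_iff (P := @LocallyOfFiniteType)).mpr
    (RingHom.finiteType_algebraMap.mpr inferInstance)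
  let e : B ≃ₐ[k] Fn (AffineHopf.sp k B) := spEquiv (k := k) B
  obtain ⟨f, hf⟩ := exists_hom_ev (T := U) (X := AffineHopf.sp k B) (B.val.comp e.symm.toAlgHom)
  have hfv : ∀ (g : PT ⟶ U) (b : B), vl (g ≫ f) (e b) = vl g (b : Fn U) := fun g b => by
    rw [← vl_ev, hf]
    simp
  haveI : IsSeparated (AffineHopf.sp k B).hom := inferInstance
  have hinv : ∀ t : PT ⟶ U ⊗ D, t ≫ (U ◁ i) ≫ μ[U] = (t ≫ fst U D) * ((t ≫ snd U D) ≫ i) := fun t => by
    rw [Hom.mul_def, ← Category.assoc]
    congr 1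
    apply CartesianMonoidalCategory.hom_ext <;> simp
  obtain ⟨w, hw⟩ := hdesc f (hom_ext_pts fun t => by
    rw [← Category.assoc, ← Category.assoc t (fst U D) f, hinv]
    exact sp_hom_ext z fun x => (hfv _ ⟨z x, Algebra.subset_adjoin ⟨x, rfl⟩⟩).trans
      ((hzinv _ _ x).trans (hfv _ ⟨z x, Algebra.subset_adjoin ⟨x, rfl⟩⟩).symm))
  have hwsurj : Function.Surjective f.left := surjective_of_pts B f fun t => by
    obtain ⟨g, hg⟩ := exists_pt_of_algHom B hBfg hBlt q htor hnil ((vl t).comp e.toAlgHom)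
    exact ⟨g, sp_hom_ext z fun x => (hfv _ _).trans (hg _)⟩
  have hwr : Set.range w.left = Set.univ := by
    rw [Set.eq_univ_iff_forall]
    intro s
    obtain ⟨u, rfl⟩ := hwsurj s
    exact ⟨p.left u, by rw [← Scheme.Hom.comp_apply, ← Over.comp_left, hw]⟩
  haveI : IsFinite w.left := by
    refine isFinite_of_equivariant w (fun y₁ y₂ h => ?_) (hwr ▸ isClosed_univ) fun y y₀ => ?_
    · obtain ⟨g₁, rfl⟩ := hpts y₁
      obtain ⟨g₂, rfl⟩ := hpts y₂
      simp only [Category.assoc, hw] at h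
      refine hp g₁ g₂ (hzL _ fun x => ?_)
      have h1 : ∀ s, vl g₁ (z s) = vl g₂ (z s) := fun s =>
        (hfv g₁ ⟨z s, Algebra.subset_adjoin ⟨s, rfl⟩⟩).symm.trans
          ((congrArg (fun t => vl t (e ⟨z s, Algebra.subset_adjoin ⟨s, rfl⟩⟩)) h).trans (hfv _ _))
      rw [hzM]
      simp only [← h1]
      rw [← hzM, inv_mul_cancel]
    · obtain ⟨h, S, hS, hh⟩ := htrans y y₀
      let T : (PT ⟶ U) → (B →ₐ[k] B) := fun y => ((lt y).comp B.val).codRestrict B fun b => hBlt y b b.2
      choose tW htW using fun y : PT ⟶ U => exists_hom_ev (T := AffineHopf.sp k B) (X := AffineHopf.sp k B)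
        ((e.toAlgHom.comp (T y)).comp e.symm.toAlgHom)
      have hTT : ∀ (y : PT ⟶ U) (b : B), T y (T y⁻¹ b) = b := fun y b => Subtype.ext (eq_of_vl fun g => by
        show vl g (lt y (lt y⁻¹ (b : Fn U))) = _
        rw [vl_lt, vl_lt, ← _root_.mul_assoc, inv_mul_cancel, _root_.one_mul])
      have hiso : ∀ y, tW y ≫ tW y⁻¹ = 𝟙 (AffineHopf.sp k B) := fun y => by
        refine ext_ev (AlgHom.ext fun s => ?_)
        obtain ⟨b, rfl⟩ := e.surjective s
        rw [← ev_ev, ev_id, htW, htW]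
        show e (T y (e.symm (e (T y⁻¹ (e.symm (e b)))))) = e b
        rw [e.symm_apply_apply, e.symm_apply_apply, hTT]
      refine ⟨S, ⟨tW h, tW h⁻¹, hiso h, by simpa using hiso h⁻¹⟩, ?_, hh⟩
      rw [← cancel_epi p, ← Category.assoc, ← hS, Category.assoc, hw, reassoc_of% hw]
      refine ext_ev (AlgHom.ext fun s => ?_)
      obtain ⟨b, rfl⟩ := e.surjective s
      rw [← ev_ev, ← ev_ev, htW, hf]
      show lt h ((e.symm (e b) : B) : Fn U) = ((e.symm (e (T h (e.symm (e b)))) : B) : Fn U)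
      rw [e.symm_apply_apply, e.symm_apply_apply]
      rfl
  exact isAffine_of_isAffineHom w.left

/-- A homogeneous space of an affine group with unipotent rational points is affine. -/
theorem isAffine_of_transitive {X : Over (Spec (CommRingCat.of k))} [IsAffine U.left]
    [Smooth U.hom] [LocallyOfFiniteType X.hom] (a : AlgGrp.Action U X) (o : PT ⟶ X)
    (hsurj : ∀ x : PT ⟶ X, ∃ g : PT ⟶ U, g ≫ a.orbitMap o = x) (q : ℕ) (htor : ∀ y : PT ⟶ U, y ^ q = 1)
    (hnil : ∀ (R : Type u) [Ring R] [Algebra k R] (x : R), x ^ q = 1 → IsNilpotent (x - 1)) :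
    IsAffine X.left := by
  classical
  haveI : QuasiCompact U.hom := inferInstance
  haveI : IsReduced U.left := isReduced_of_smooth_field U.hom
  haveI := GrpSchLib.AntiAffine.isSeparated_grp U
  let Z : Set U.left := (a.orbitMap o).left ⁻¹' {cp o}
  have hZ : ∀ g : PT ⟶ U, cp g ∈ Z ↔ lift g o ≫ a.act = o := fun g => by
    rw [← pt_orbitMap]
    exact ⟨fun h => cp_injective h, fun h => congrArg cp h⟩
  obtain ⟨D, _, i, _, _, _, _, _, hir⟩ := exists_subgroup Z
    ((isClosed_cp' o).preimage (a.orbitMap o).left.continuous) ((hZ 1).mpr (GrpSchLib.act_one a o))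
    (fun g h hg hh => (hZ _).mpr (by rw [← GrpSchLib.act_mul, (hZ h).mp hh, (hZ g).mp hg]))
    (fun g hg => (hZ _).mpr (by
      conv_lhs => rw [← (hZ g).mp hg, GrpSchLib.act_mul, inv_mul_cancel, GrpSchLib.act_one]))
  haveI : LocallyOfFiniteType D.hom := inferInstance
  haveI : Mono i.left := inferInstance
  haveI : Mono i := (Over.forget _).mono_of_mono_map (inferInstanceAs (Mono i.left))
  have hDpts : ∀ g : PT ⟶ U, (∃ l : PT ⟶ D, l ≫ i = g) ↔ lift g o ≫ a.act = o := fun g => by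
    refine ⟨?_, fun h => exists_of_mem_range i g (hir.symm ▸ (hZ g).mpr h)⟩
    rintro ⟨l, rfl⟩
    exact (hZ _).mp (hir ▸ ⟨_, rfl⟩)
  -- the quotient by the reduced stabiliser
  obtain ⟨X₁, a₁, o₁, hX₁l, hX₁q, hfl, hsu, sq⟩ := HomogeneousQuot.exists_quot U D i
  haveI := hX₁l
  haveI := hX₁q
  haveI := hfl
  haveI := hsu
  have hX₁ : AGF.IsQuotient i X₁ a₁ o₁ := ⟨hX₁l, hfl, hsu, sq⟩
  haveI : IsSeparated X₁.hom := QuotProper.quot_isSeparated hX₁
  let p : U ⟶ X₁ := a₁.orbitMap o₁
  haveI : QuasiCompact (p.left ≫ X₁.hom) := by rw [Over.w p]; infer_instance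
  haveI : QuasiCompact p.left := QuasiCompact.of_comp p.left X₁.hom
  haveI : Flat p.left := hfl
  haveI : Surjective p.left := hsu
  haveI : Nonempty X₁.left := ⟨p.left (cp (1 : PT ⟶ U))⟩
  haveI : IsReduced (U ⊗ D).left := GrpSchLib.isReduced_pullback_of_perfectField U.hom D.hom
  haveI : LocallyOfFiniteType (U ⊗ D).hom :=
    inferInstanceAs (LocallyOfFiniteType (Limits.pullback.fst U.hom D.hom ≫ U.hom))
  have hdesc : ∀ {Y : Over (Spec (CommRingCat.of k))} (f : U ⟶ Y),
      ((U ◁ i) ≫ μ[U]) ≫ f = fst U D ≫ f → ∃ f' : X₁ ⟶ Y, p ≫ f' = f := by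
    intro Y f hf
    have hd : ∀ {Z' : Scheme.{u}} (g₁ g₂ : Z' ⟶ U.left), g₁ ≫ p.left = g₂ ≫ p.left → g₁ ≫ f.left = g₂ ≫ f.left := by
      intro Z' g₁ g₂ e
      let T : Over (Spec (CommRingCat.of k)) := Over.mk (g₁ ≫ U.hom)
      let b₁ : T ⟶ U := Over.homMk g₁ rfl
      let b₂ : T ⟶ U := Over.homMk g₂ (by
        show g₂ ≫ U.hom = g₁ ≫ U.hom
        rw [← Over.w p, ← Category.assoc, ← e, Category.assoc])
      obtain ⟨w, hw1, hw2⟩ := Limits.PullbackCone.IsLimit.lift' sq.isLimit b₁ b₂ (Over.OverMorphism.ext e)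
      have h := congrArg (w ≫ ·) hf
      simp only [← Category.assoc] at h
      have hw1' : w ≫ fst U D = b₁ := hw1
      have hw2' : (w ≫ U ◁ i) ≫ μ[U] = b₂ := (Category.assoc _ _ _).trans hw2
      rw [hw1', hw2'] at h
      exact (congrArg CommaMorphism.left h).symm
    let l := EffectiveEpi.desc p.left f.left (fun {Z'} g₁ g₂ e => hd g₁ g₂ e)
    have hl : p.left ≫ l = f.left := EffectiveEpi.fac _ _ _
    refine ⟨Over.homMk l ?_, Over.OverMorphism.ext hl⟩
    show l ≫ Y.hom = X₁.hom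
    rw [← cancel_epi p.left, reassoc_of% hl, Over.w f, Over.w p]
  have hinv : ∀ t : PT ⟶ U ⊗ D, t ≫ (U ◁ i) ≫ μ[U] = (t ≫ fst U D) * ((t ≫ snd U D) ≫ i) := fun t => by
    rw [Hom.mul_def, ← Category.assoc]
    congr 1
    apply CartesianMonoidalCategory.hom_ext <;> simp
  have hpts : ∀ y : PT ⟶ X₁, ∃ g : PT ⟶ U, g ≫ p = y := fun y => exists_of_mem_range p y (p.left.surjective _)
  have hp : ∀ g g' : PT ⟶ U, g ≫ p = g' ≫ p ↔ ∃ l : PT ⟶ D, l ≫ i = g⁻¹ * g' := fun g g' => by
    refine ⟨fun e => ⟨sq.lift g g' e ≫ snd U D, ?_⟩, fun ⟨l, hl⟩ => ?_⟩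
    · have h1 := sq.lift_snd g g' e
      rw [hinv, sq.lift_fst] at h1
      exact eq_inv_mul_of_mul_eq h1
    · have h1 := congrArg (lift g l ≫ ·) sq.w
      simp only [← Category.assoc, lift_fst] at h1
      rw [show (lift g l ≫ U ◁ i) ≫ μ[U] = g' by
        rw [Category.assoc, hinv, lift_fst, lift_snd, hl, mul_inv_cancel_left]] at h1
      exact h1
  have htrans : ∀ y y₀ : PT ⟶ X₁, ∃ h : PT ⟶ U, y ≫ (transX a₁ h).hom = y₀ := fun y y₀ => by
    obtain ⟨g, rfl⟩ := hpts y
    obtain ⟨g₀, rfl⟩ := hpts y₀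
    refine ⟨g₀ * g⁻¹, ?_⟩
    rw [comp_transX, toUnit_unit, Category.id_comp, pt_orbitMap, GrpSchLib.act_mul, inv_mul_cancel_right,
      ← pt_orbitMap]
  have hp_tr : ∀ h : PT ⟶ U, ((toUnit U ≫ h) * 𝟙 U) ≫ p = p ≫ (transX a₁ h).hom := fun h => by
    rw [comp_transX]
    simp only [p, AlgGrp.Action.orbitMap]
    rw [GrpSchLib.act_mul, ← Category.assoc, comp_lift, Category.comp_id, ← Category.assoc, comp_toUnit]
  haveI : Epi p.left := inferInstance
  haveI : Epi p := Over.epi_of_epi_left p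
  -- the line vector
  obtain ⟨ι₀, _, z, M, hzM, ⟨x₀, hx₀⟩, hzL, hzc⟩ := exists_line_vec i
  have hzi : ∀ (l : PT ⟶ D) x, vl (l ≫ i) (z x) = vl 1 (z x) := by
    intro l x
    obtain ⟨c, hc⟩ := hzc l
    have hpow : ∀ (m : ℕ) x, vl ((l ≫ i) ^ m) (z x) = c ^ m * vl 1 (z x) := by
      intro m
      induction m with
      | zero => intro x; simp
      | succ m ih =>
        intro x
        rw [pow_succ', hzM]
        simp only [ih, _root_.mul_left_comm _ (c ^ m), ← Finset.mul_sum]
        rw [← hzM, _root_.mul_one, hc, ← _root_.mul_assoc, ← pow_succ]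
    have hc1 : c = 1 := by
      have h1 := hpow q x₀
      rw [htor] at h1
      have h2 : c ^ q = 1 := mul_right_cancel₀ hx₀ (by rw [← h1, _root_.one_mul])
      exact sub_eq_zero.mp (hnil k c h2).eq_zero
    rw [hc, hc1, _root_.one_mul]
  have hzinv : ∀ (g : PT ⟶ U) (l : PT ⟶ D) x, vl (g * (l ≫ i)) (z x) = vl g (z x) := fun g l x => by
    rw [hzM]
    simp only [hzi]
    rw [← hzM, _root_.mul_one]
  haveI : IsAffine X₁.left := isAffine_of_vec i p q htor hnil hdesc hpts (fun g g' => (hp g g').mpr)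
    (fun y y₀ => by obtain ⟨h, hh⟩ := htrans y y₀; exact ⟨h, transX a₁ h, hp_tr h, hh⟩) z M hzM hzinv hzL
  -- comparison with the given space
  obtain ⟨m, hm⟩ := hdesc (a.orbitMap o) (by
    have key : ((snd U D ≫ i) ≫ a.orbitMap o) = toUnit (U ⊗ D) ≫ o := eq_const_of_range o _ (by
      rintro _ ⟨t, rfl⟩
      have : i.left ((snd U D).left t) ∈ Z := hir ▸ ⟨_, rfl⟩
      exact this)
    simp only [AlgGrp.Action.orbitMap] at key ⊢
    rw [← Category.assoc, comp_lift, Category.comp_id, ← Category.assoc, comp_toUnit] at key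
    rw [← Category.assoc, ← Category.assoc, comp_lift, comp_lift, Category.comp_id, Category.comp_id,
      ← Category.assoc, ← Category.assoc, comp_toUnit, comp_toUnit]
    rw [show (U ◁ i) ≫ μ[U] = fst U D * (snd U D ≫ i) by
      rw [Hom.mul_def]; exact congrArg (· ≫ μ[U]) (by apply CartesianMonoidalCategory.hom_ext <;> simp), ← GrpSchLib.act_mul, key])
  have hmr : Set.range m.left = Set.univ := by
    haveI : JacobsonSpace X.left := LocallyOfFiniteType.jacobsonSpace X.hom
    haveI : LocallyOfFiniteType (m.left ≫ X.hom) := by rw [Over.w m]; infer_instance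
    haveI : LocallyOfFiniteType m.left := locallyOfFiniteType_of_comp m.left X.hom
    haveI : IsLocallyNoetherian X.left := LocallyOfFiniteType.isLocallyNoetherian X.hom
    have : QuasiSeparated X.hom := (quasiSeparated_iff_quasiSeparatedSpace X.hom).mpr inferInstance
    haveI : QuasiCompact (m.left ≫ X.hom) := by rw [Over.w m]; infer_instance
    haveI : QuasiCompact m.left := QuasiCompact.of_comp m.left X.hom
    have hr : Set.range m.left = Set.range (a.orbitMap o).left := by
      rw [← hm, Over.comp_left, Scheme.Hom.comp_base, TopCat.coe_comp, p.left.surjective.range_comp]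
    haveI : QuasiCompact ((a.orbitMap o).left ≫ X.hom) := by rw [Over.w (a.orbitMap o)]; infer_instance
    haveI : QuasiCompact (a.orbitMap o).left := QuasiCompact.of_comp (a.orbitMap o).left X.hom
    haveI : Nonempty U.left := ⟨cp (1 : PT ⟶ U)⟩
    have hlc : IsLocallyClosed (Set.range (a.orbitMap o).left) :=
      isLocallyClosed_range_of_homogeneous (K := k) (a.orbitMap o) fun w w' => by
        obtain ⟨S, T, h1, -, h3⟩ := orbitMap_homogeneous a o w w'
        exact ⟨S, T, h1, h3⟩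
    rw [hr]
    by_contra hne
    obtain ⟨A, C, hA, hC, hAC⟩ := hlc
    have hcl : ∀ c : X.left, IsClosed ({c} : Set X.left) → c ∈ Set.range (a.orbitMap o).left := fun c hc => by
      obtain ⟨x, rfl⟩ := exists_cp hc
      obtain ⟨g, hg⟩ := hsurj x
      exact ⟨cp g, by rw [← cp_comp, hg]⟩
    obtain ⟨s, hs⟩ := (Set.ne_univ_iff_exists_notMem _).mp hne
    rw [hAC] at hs hcl
    by_cases hsA : s ∈ A
    · obtain ⟨c, hc1, hc2⟩ := nonempty_inter_closedPoints (Z := Cᶜ) ⟨s, fun h => hs ⟨hsA, h⟩⟩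
        hC.isOpen_compl.isLocallyClosed
      exact hc1 (hcl c hc2).2
    · obtain ⟨c, hc1, hc2⟩ := nonempty_inter_closedPoints (Z := Aᶜ) ⟨s, hsA⟩
        hA.isClosed_compl.isLocallyClosed
      exact hc1 (hcl c hc2).1
  haveI : IsFinite m.left := by
    refine isFinite_of_equivariant m (fun y₁ y₂ h => ?_) (hmr ▸ isClosed_univ) fun y y₀ => ?_
    · obtain ⟨g₁, rfl⟩ := hpts y₁
      obtain ⟨g₂, rfl⟩ := hpts y₂
      simp only [Category.assoc, hm] at h
      rw [hp, hDpts, ← GrpSchLib.act_mul, ← pt_orbitMap a o g₂, ← h, pt_orbitMap, GrpSchLib.act_mul,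
        inv_mul_cancel, GrpSchLib.act_one]
    · obtain ⟨h, hh⟩ := htrans y y₀
      refine ⟨transX a₁ h, transX a h, ?_, hh⟩
      rw [← cancel_epi p, ← Category.assoc, ← hp_tr, Category.assoc, hm, reassoc_of% hm, comp_transX]
      simp only [AlgGrp.Action.orbitMap]
      rw [GrpSchLib.act_mul, ← Category.assoc, comp_lift, Category.comp_id, ← Category.assoc, comp_toUnit]
  haveI : Surjective m.left := ⟨Set.range_eq_univ.mp hmr⟩
  haveI : CompactSpace X₁.left := (quasiCompact_iff_compactSpace X₁.hom).mp inferInstance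
  haveI : CompactSpace X.left := m.left.surjective.compactSpace m.left.continuous
  haveI : IsLocallyNoetherian X.left := LocallyOfFiniteType.isLocallyNoetherian X.hom
  haveI : IsNoetherian X.left := { }
  exact ChevAffine.isAffine_of_finite_surjective m.left

end Groth.Agent.WeilCmp.Unip
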