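import Groth.Agent.GrpSchLib.AntiAffineHom
import Groth.Prelude.Def_WeilRes
import Groth.Prelude.Def_AlgGrp
import Mathlib.AlgebraicGeometry.Morphisms.Flat
import Mathlib.AlgebraicGeometry.Morphisms.UniversallyOpen

/-! Quasi-compactness of homomorphisms with quasi-compact kernel, and of comparison maps. -/

set_option backward.isDefEq.respectTransparency false
set_option backward.isDefEq.respectTransparency.types false
set_option linter.style.haveILetI false

universe u

open CategoryTheory MonoidalCategory CartesianMonoidalCategory MonObj AlgebraicGeometry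

namespace Groth.Agent.WeilCmp

/-- A flat surjective homomorphism with quasi-compact kernel is quasi-compact. -/
theorem quasiCompact_of_kernel {k : Type u} [Field k] {G Q N : Over (Spec (CommRingCat.of k))} [GrpObj G] [GrpObj Q]
    [LocallyOfFiniteType G.hom] [LocallyOfFiniteType Q.hom] (q : G ⟶ Q) [IsMonHom q] [Surjective q.left] [Flat q.left]
    (iN : N ⟶ G) (hN : AlgGrp.IsKernel iN q) [CompactSpace N.left] : QuasiCompact q.left := by
  haveI : IsLocallyNoetherian Q.left := LocallyOfFiniteType.isLocallyNoetherian Q.hom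
  haveI : LocallyOfFiniteType (q.left ≫ Q.hom) := by rw [Over.w q]; infer_instance
  haveI : LocallyOfFiniteType q.left := locallyOfFiniteType_of_comp q.left Q.hom
  haveI : LocallyOfFinitePresentation q.left := inferInstance
  haveI : QuasiCompact N.hom := (quasiCompact_iff_compactSpace N.hom).mpr inferInstance
  haveI : QuasiCompact (fst G N).left := inferInstanceAs (QuasiCompact (Limits.pullback.fst G.hom N.hom))
  let φ : G ⊗ N ⟶ G := fst G N * (snd G N ≫ iN)
  have hiN : iN ≫ q = 1 := hN.w.trans (by rw [Hom.one_def])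
  have hφ : φ ≫ q = fst G N ≫ q := by
    simp only [φ, MonObj.mul_comp, Category.assoc, hiN, MonObj.comp_one, _root_.mul_one]
  let P : Over (Spec (CommRingCat.of k)) := Over.mk (Limits.pullback.fst q.left q.left ≫ G.hom)
  let a : P ⟶ G := Over.homMk (Limits.pullback.fst q.left q.left) rfl
  let b : P ⟶ G := Over.homMk (Limits.pullback.snd q.left q.left) (by
    show _ = Limits.pullback.fst q.left q.left ≫ G.hom
    rw [← Over.w q, Limits.pullback.condition_assoc])
  have hab : a ≫ q = b ≫ q := Over.OverMorphism.ext Limits.pullback.condition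
  have hab' : (a⁻¹ * b) ≫ q = toUnit P ≫ η[Q] := by
    rw [MonObj.mul_comp, GrpObj.inv_comp, hab, inv_mul_cancel, Hom.one_def]
  let n := hN.lift (a⁻¹ * b) (toUnit P) hab'
  have hb : lift a n ≫ φ = b := by
    simp only [φ, MonObj.comp_mul, lift_fst, ← Category.assoc, lift_snd]
    rw [hN.lift_fst, mul_inv_cancel_left]
  have hmem : ∀ z v : G.left, q.left z = q.left v → z ∈ φ.left '' ((fst G N).left ⁻¹' {v}) := by
    intro z v h
    obtain ⟨w, hw1, hw2⟩ := Scheme.Pullback.exists_preimage_pullback (f := q.left) (g := q.left) v z h.symm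
    refine ⟨(lift a n).left w, ?_, ?_⟩
    · show (fst G N).left ((lift a n).left w) = v
      rw [← hw1, ← Scheme.Hom.comp_apply, ← Over.comp_left, lift_fst]
      rfl
    · rw [← Scheme.Hom.comp_apply, ← Over.comp_left, hb]
      exact hw2
  refine ⟨fun U hU hUc => ?_⟩
  choose V hV hzV hVU using fun z : q.left ⁻¹' U =>
    exists_isAffineOpen_mem_and_subset (X := G.left) (U := ⟨q.left ⁻¹' U, hU.preimage q.left.continuous⟩) z.2
  obtain ⟨t, ht⟩ := hUc.elim_finite_subcover (fun z => q.left '' (V z : Set G.left))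
    (fun z => q.left.isOpenMap _ (V z).2) fun y hy => by
      obtain ⟨z, rfl⟩ := q.left.surjective y
      exact Set.mem_iUnion.mpr ⟨⟨z, hy⟩, z, hzV ⟨z, hy⟩, rfl⟩
  have hW : IsCompact ((fst G N).left ⁻¹' ((⨆ z ∈ t, V z : G.left.Opens) : Set G.left)) :=
    QuasiCompact.isCompact_preimage _ (TopologicalSpace.Opens.isOpen _) (by
      simp only [TopologicalSpace.Opens.coe_iSup]
      exact t.isCompact_biUnion fun z _ => (hV z).isCompact)
  convert hW.image φ.left.continuous
  ext z
  constructor
  · intro hz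
    obtain ⟨y, hy, v, hv, hvz⟩ := Set.mem_iUnion₂.mp (ht hz)
    obtain ⟨w, hw, hwz⟩ := hmem z v hvz.symm
    refine ⟨w, ?_, hwz⟩
    show (fst G N).left w ∈ ((⨆ z ∈ t, V z : G.left.Opens) : Set G.left)
    rw [show (fst G N).left w = v from hw]
    simp only [TopologicalSpace.Opens.coe_iSup]
    exact Set.mem_iUnion₂.mpr ⟨y, hy, hv⟩
  · rintro ⟨w, hw, rfl⟩
    simp only [Set.mem_preimage, TopologicalSpace.Opens.coe_iSup, Set.mem_iUnion] at hw
    obtain ⟨y, -, hv⟩ := hw
    show q.left (φ.left w) ∈ U
    rw [← Scheme.Hom.comp_apply, ← Over.comp_left, hφ]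
    exact hVU y hv

/-- Quasi-compactness descends along an affine surjective base change. -/
theorem quasiCompact_of_bc {S S' : Scheme.{u}} (f : S' ⟶ S) [IsAffineHom f] [Surjective f] {G R : Over S} (γ : G ⟶ R)
    [QuasiCompact ((Over.pullback f).map γ).left] : QuasiCompact γ.left := by
  refine ⟨fun U hU hUc => ?_⟩
  let pG := Limits.pullback.fst G.hom f
  let pR := Limits.pullback.fst R.hom f
  let γ' := ((Over.pullback f).map γ).left
  have hcomp : γ' ≫ pR = pG ≫ γ.left := Limits.pullback.lift_fst _ _ _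
  have h : IsCompact (γ' ⁻¹' (pR ⁻¹' U)) :=
    QuasiCompact.isCompact_preimage _ (hU.preimage pR.continuous) (QuasiCompact.isCompact_preimage _ hU hUc)
  convert h.image pG.continuous
  ext x
  constructor
  · intro hx
    obtain ⟨x', rfl⟩ := pG.surjective x
    refine ⟨x', ?_, rfl⟩
    show (γ' ≫ pR) x' ∈ U
    rw [hcomp]
    exact hx
  · rintro ⟨x', hx', rfl⟩
    show (pG ≫ γ.left) x' ∈ U
    rw [← hcomp]
    exact hx'

end Groth.Agent.WeilCmp
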