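import Groth.Agent.WeilCmp.Quot
import Groth.Agent.WeilCmp.UnipOrbit
import Groth.Agent.AGFLib.GeomBC
import Groth.Agent.AGFLib.BorelExist
import Groth.Agent.GrpSchLib.RedSubgroup
import Groth.Agent.GrpSchLib.Cartier
import Groth.Agent.AlgSpPts.FppfTarget
import Groth.Agent.AlgSpLib.Descends
import Groth.Agent.S19965

/-! Homogeneous quotients of Weil restrictions by images of comparison maps are affine. -/

set_option backward.isDefEq.respectTransparency false
set_option backward.isDefEq.respectTransparency.types false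
set_option linter.style.haveILetI false

universe u

open CategoryTheory MonoidalCategory CartesianMonoidalCategory MonObj AlgebraicGeometry

namespace Groth.Agent.WeilCmp

open WeilAff AGFLib AGFLib.Gen AGFLib.BorelFixed AGFLib.GeomBC AGFLib.BorelExist

section Points

variable {k : Type u} [Field k] [IsAlgClosed k]

/-- Rational points lift along surjections. -/
theorem exists_lift_cp {W Z : Over (Spec (CommRingCat.of k))} [LocallyOfFiniteType W.hom] [LocallyOfFiniteType Z.hom]
    (f : W ⟶ Z) [Surjective f.left] (g : 𝟙_ (Over (Spec (CommRingCat.of k))) ⟶ Z) :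
    ∃ w : 𝟙_ (Over (Spec (CommRingCat.of k))) ⟶ W, w ≫ f = g := by
  haveI : JacobsonSpace W.left := LocallyOfFiniteType.jacobsonSpace W.hom
  obtain ⟨x, hx⟩ := f.left.surjective (cp g)
  obtain ⟨y, hy1, hy2⟩ := nonempty_inter_closedPoints (Z := f.left ⁻¹' {cp g}) ⟨x, hx⟩
    ((Unip.isClosed_cp' g).preimage f.left.continuous).isLocallyClosed
  obtain ⟨w, rfl⟩ := exists_cp hy2
  exact ⟨w, cp_injective hy1⟩

/-- A homogeneous space on which points killed by a power of the characteristic act transitively is affine. -/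
theorem isAffine_of_torsion {G K X : Over (Spec (CommRingCat.of k))} [GrpObj G] [GrpObj K] [IsAffine K.left]
    [LocallyOfFiniteType K.hom] [LocallyOfFiniteType X.hom] (a : AlgGrp.Action G X)
    (o : 𝟙_ (Over (Spec (CommRingCat.of k))) ⟶ X) (f : K ⟶ G) [IsMonHom f]
    (hsurj : ∀ x : 𝟙_ (Over (Spec (CommRingCat.of k))) ⟶ X, ∃ κ : 𝟙_ (Over (Spec (CommRingCat.of k))) ⟶ K,
      (κ ≫ f) ≫ a.orbitMap o = x)
    (hkill : (𝟙 K : K ⟶ K) = 1 ∨ ∃ p n : ℕ, p.Prime ∧ CharP k p ∧ (𝟙 K : K ⟶ K) ^ p ^ n = 1) :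
    IsAffine X.left := by
  haveI : QuasiCompact K.hom := inferInstance
  haveI : PerfectField k := inferInstance
  obtain ⟨U, _, v, _, _, _, _, _, _⟩ := GrpSchLib.RedSubgroup.exists_redSubgroup K
  haveI : IsAffine U.left := isAffine_of_isAffineHom v.left
  haveI : Smooth U.hom := GrpSchLib.smooth_of_isReduced_of_isAlgClosed U
  haveI : IsSeparated K.hom := inferInstance
  obtain ⟨b, hb⟩ := exists_restrict a (v ≫ f)
  have horb : b.orbitMap o = (v ≫ f) ≫ a.orbitMap o := by
    simp only [AlgGrp.Action.orbitMap]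
    rw [hb, ← Category.assoc, lift_whiskerRight, Category.id_comp, ← Category.assoc (v ≫ f), comp_lift,
      Category.comp_id, ← Category.assoc _ (toUnit G), comp_toUnit]
  have hmono : Mono v := by
    haveI : Mono v.left := inferInstance
    exact (Over.forget _).mono_of_mono_map (inferInstanceAs (Mono v.left))
  have hsurjU : ∀ x : 𝟙_ (Over (Spec (CommRingCat.of k))) ⟶ X,
      ∃ g : 𝟙_ (Over (Spec (CommRingCat.of k))) ⟶ U, g ≫ b.orbitMap o = x := fun x => by
    obtain ⟨κ, hκ⟩ := hsurj x
    obtain ⟨g, rfl⟩ := exists_of_mem_range v κ (v.left.surjective _)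
    exact ⟨g, by rw [horb, ← hκ]; simp only [Category.assoc]⟩
  have hN : ∀ N : ℕ, (𝟙 K : K ⟶ K) ^ N = 1 →
      ∀ y : 𝟙_ (Over (Spec (CommRingCat.of k))) ⟶ U, y ^ N = 1 := fun N h y => by
    let Pv : (𝟙_ (Over (Spec (CommRingCat.of k))) ⟶ U) →* (𝟙_ (Over (Spec (CommRingCat.of k))) ⟶ K) :=
      MonoidHom.mk' (fun g => g ≫ v) fun g g' => MonObj.mul_comp g g' v
    have h2 : Pv (y ^ N) = Pv 1 := by
      rw [map_pow, map_one]
      show (y ≫ v) ^ N = 1
      rw [← Category.comp_id (y ≫ v), ← MonObj.comp_pow, h, MonObj.comp_one]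
    exact (cancel_mono v).mp h2
  rcases hkill with h | ⟨p, n, hp, hchar, h⟩
  · exact Unip.isAffine_of_transitive b o hsurjU 1 (hN 1 (by rw [pow_one]; exact h)) fun R _ _ x hx => by
      rw [pow_one] at hx
      rw [hx, sub_self]
      exact IsNilpotent.zero
  · refine Unip.isAffine_of_transitive b o hsurjU (p ^ n) (hN _ h) fun R _ _ x hx => ⟨p ^ n, ?_⟩
    haveI : Fact p.Prime := ⟨hp⟩
    rcases subsingleton_or_nontrivial R with _ | _
    · exact Subsingleton.elim _ _
    haveI : CharP R p := charP_of_injective_ringHom (algebraMap k R).injective p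
    rw [sub_pow_char_pow_of_commute p n (Commute.one_right x), hx, one_pow, sub_self]

end Points

variable {k k' : Type u} [Field k] [Field k'] [Algebra k k'] [Module.Finite k k'] [IsPurelyInseparable k k']
  {G H R : Over (Spec (CommRingCat.of k))} [GrpObj G] [LocallyOfFiniteType G.hom] [GrpObj H] [GrpObj R]
  {Gbar : Over (Spec (CommRingCat.of k'))} [GrpObj Gbar] [LocallyOfFiniteType Gbar.hom]
  {qR : Red.bc (sig k k') R ⟶ Gbar} [IsMonHom qR] {j : H ⟶ R} [IsMonHom j] [IsClosedImmersion j.left]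

/-- The quotient homogeneous space is affine. -/
theorem homog_isAffine (q : Red.bc (sig k k') G ⟶ Gbar) [Surjective q.left]
    (hR : WeilRes.IsWeilRes (sig k k') Gbar R qR) {p : G ⟶ H}
    (hfac : p ≫ j = hR.lift G q) {Q : Over (Spec (CommRingCat.of k))} (aQ : AlgGrp.Action R Q)
    (q₀ : 𝟙_ (Over (Spec (CommRingCat.of k))) ⟶ Q) (hQ : ChGrp.IsHomog Scheme.fppfPrecoverage j aQ q₀) :
    IsAffine Q.left := by
  let F := Over.pullback (sig k k')
  haveI lR : LocallyOfFiniteType R.hom := locallyOfFiniteType_res hR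
  haveI : LocallyOfFiniteType H.hom := by rw [← Over.w j]; infer_instance
  haveI : IsLocallyNoetherian (Spec (CommRingCat.of k)) := inferInstance
  haveI : LocallyOfFinitePresentation H.hom := inferInstance
  haveI hfl : Flat (aQ.orbitMap q₀).left := by
    haveI := AlgSpPts.isLocalAtTarget_fppf (@Flat : MorphismProperty Scheme.{u})
    exact S19965.result _ R H j Q aQ q₀ hQ @Flat inferInstance
  haveI hsu : Surjective (aQ.orbitMap q₀).left := by
    haveI := AlgSpPts.isLocalAtTarget_fppf (@Surjective : MorphismProperty Scheme.{u})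
    refine S19965.result _ R H j Q aQ q₀ hQ @Surjective ?_
    haveI : Nonempty H.left := ⟨η[H].left (IsLocalRing.closedPoint k)⟩
    exact ⟨Function.surjective_to_subsingleton (α := H.left) (β := Spec (CommRingCat.of k)) _⟩
  haveI hlfp : LocallyOfFinitePresentation (aQ.orbitMap q₀).left := by
    haveI := AlgSpPts.isLocalAtTarget_fppf (@LocallyOfFinitePresentation : MorphismProperty Scheme.{u})
    exact S19965.result _ R H j Q aQ q₀ hQ @LocallyOfFinitePresentation inferInstance
  haveI : LocallyOfFiniteType ((aQ.orbitMap q₀).left ≫ Q.hom) := by rw [Over.w (aQ.orbitMap q₀)]; infer_instance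
  haveI lQ : LocallyOfFiniteType Q.hom := SrcDescent.locallyOfFiniteType_of_fppf_comp (aQ.orbitMap q₀).left Q.hom
  have hX : AGF.IsQuotient j Q aQ q₀ := ⟨lQ, hfl, hsu, hQ.2.1⟩
  let Ω := AlgebraicClosure k'
  let b : Spec (CommRingCat.of Ω) ⟶ Spec (CommRingCat.of k') := Spec.map (CommRingCat.ofHom (algebraMap k' Ω))
  let B := Over.pullback b
  have hX1 := isQuotient_bc (sig k k') j aQ q₀ hX
  have hX2 := isQuotient_bc b (F.map j) (bcAction (sig k k') aQ) (bcPt (sig k k') q₀) hX1
  let Q2 : Over (Spec (CommRingCat.of Ω)) := Red.bc b (Red.bc (sig k k') Q)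
  let a2 := bcAction b (bcAction (sig k k') aQ)
  let o2 := bcPt b (bcPt (sig k k') q₀)
  haveI : LocallyOfFiniteType Q2.hom := hX2.1
  haveI : Surjective (a2.orbitMap o2).left := hX2.2.2.1
  haveI : IsSeparated Gbar.hom := GrpSchLib.AntiAffine.isSeparated_grp Gbar
  obtain ⟨K, _, iK, hiK, -, -, hK⟩ := GrpSchLib.exists_kernel qR
  obtain ⟨hKa, hKl, -⟩ := exists_chartKernel hR hK
  haveI := hKa
  haveI := hKl
  haveI : LocallyOfFiniteType (Red.bc (sig k k') H).hom :=
    inferInstanceAs (LocallyOfFiniteType (Limits.pullback.snd H.hom (sig k k')))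
  haveI : LocallyOfFiniteType (Red.bc (sig k k') R).hom :=
    inferInstanceAs (LocallyOfFiniteType (Limits.pullback.snd R.hom (sig k k')))
  let ρ : Red.bc (sig k k') H ⟶ Gbar := F.map j ≫ qR
  have hρ : F.map p ≫ ρ = q := by
    show F.map p ≫ F.map j ≫ qR = q
    rw [← Category.assoc, ← Functor.map_comp, hfac]
    exact hR.restr_lift G q
  have hρl : (F.map p).left ≫ ρ.left = q.left := congrArg (·.left) hρ
  haveI : Surjective ((F.map p).left ≫ ρ.left) := by rw [hρl]; infer_instance
  haveI : Surjective ρ.left := Surjective.of_comp (F.map p).left ρ.left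
  let Φ : K ⊗ Red.bc (sig k k') H ⟶ Red.bc (sig k k') R := (fst K _ ≫ iK) * (snd K _ ≫ F.map j)
  have sq := ((isPullback_prodMap iK qR hK (F.map j)).map (Over.forget _)).flip
  haveI : Surjective Φ.left := MorphismProperty.of_isPullback (P := @Surjective) sq ‹Surjective ρ.left›
  haveI : LocallyOfFiniteType (K ⊗ Red.bc (sig k k') H).hom :=
    inferInstanceAs (LocallyOfFiniteType (Limits.pullback.fst K.hom (Red.bc (sig k k') H).hom ≫ K.hom))
  haveI : Surjective (B.map Φ).left := MorphismProperty.baseChange_map (P := @Surjective) b Φ ‹_›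
  haveI : LocallyOfFiniteType (B.obj (K ⊗ Red.bc (sig k k') H)).hom :=
    inferInstanceAs (LocallyOfFiniteType (Limits.pullback.snd (K ⊗ Red.bc (sig k k') H).hom b))
  haveI : LocallyOfFiniteType (Red.bc b (Red.bc (sig k k') R)).hom :=
    inferInstanceAs (LocallyOfFiniteType (Limits.pullback.snd (Red.bc (sig k k') R).hom b))
  haveI : LocallyOfFiniteType (Red.bc b K).hom := inferInstanceAs (LocallyOfFiniteType (Limits.pullback.snd K.hom b))
  haveI : IsAffine (Red.bc b K).left := inferInstanceAs (IsAffine (Limits.pullback K.hom b))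
  haveI : IsAffine Q2.left := by
    refine isAffine_of_torsion a2 o2 (B.map iK : Red.bc b K ⟶ Red.bc b (Red.bc (sig k k') R)) (fun x => ?_) ?_
    · obtain ⟨r, rfl⟩ := exists_lift_cp (a2.orbitMap o2) x
      obtain ⟨t, rfl⟩ := exists_lift_cp (B.map Φ) r
      refine ⟨t ≫ B.map (fst K _), ?_⟩
      have hΦ : B.map Φ = B.map (fst K _) ≫ B.map iK * B.map (snd K _) ≫ B.map (F.map j) := by
        simp only [← Functor.map_comp]
        exact CategoryTheory.Functor.map_mul B _ _
      have hfix := stab_of_quot hX2 (t ≫ B.map (snd K _))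
      rw [toUnit_unit, Category.id_comp] at hfix
      rw [hΦ, MonObj.comp_mul, pt_orbitMap, pt_orbitMap, ← GrpSchLib.act_mul, ← Category.assoc t,
        ← Category.assoc t]
      exact congrArg (fun y => lift _ y ≫ _) hfix.symm
    · have hN : ∀ N : ℕ, (𝟙 K : K ⟶ K) ^ N = 1 → (𝟙 (Red.bc b K) : Red.bc b K ⟶ Red.bc b K) ^ N = 1 := fun N h => by
        rw [← B.map_id K]
        exact ((map_pow (B.homMonoidHom (X := K) (M := K)) (𝟙 K) N).symm.trans ((congrArg _ h).trans (map_one _)))
      rcases pow_eq_one hR hK with h | ⟨l, n, hl, hchar, h⟩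
      · exact Or.inl (by simpa using hN 1 (by rw [pow_one]; exact h))
      · exact Or.inr ⟨l, n, hl, charP_of_injective_algebraMap (algebraMap k' Ω).injective l, hN _ h⟩
  haveI := EtFound.fpqc_isAffineHom.{u}
  haveI := sig_finite (k := k) (k' := k')
  haveI : IsAffineHom (Red.bc (sig k k') Q).hom := by
    refine MorphismProperty.of_pullback_snd_of_descendsAlong (P := @IsAffineHom)
      (Q := @Surjective ⊓ @Flat ⊓ @QuasiCompact) (g := b) (f := (Red.bc (sig k k') Q).hom) ⟨⟨?_, ?_⟩, ?_⟩ ?_
    · exact GrpSchLib.surjective_spec_map_field (algebraMap k' Ω)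
    · exact GrpSchLib.flat_spec_map_field (algebraMap k' Ω)
    · infer_instance
    · exact inferInstanceAs (IsAffineHom Q2.hom)
  haveI : IsAffineHom Q.hom := by
    refine MorphismProperty.of_pullback_snd_of_descendsAlong (P := @IsAffineHom)
      (Q := @Surjective ⊓ @Flat ⊓ @QuasiCompact) (g := sig k k') (f := Q.hom) ⟨⟨?_, ?_⟩, ?_⟩ ?_
    · exact ⟨Function.surjective_to_subsingleton (α := Spec (CommRingCat.of k')) (β := Spec (CommRingCat.of k)) _⟩
    · infer_instance
    · infer_instance
    · exact inferInstanceAs (IsAffineHom (Red.bc (sig k k') Q).hom)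
  exact isAffine_of_isAffineHom Q.hom

end Groth.Agent.WeilCmp
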