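import Groth.Agent.WeilCmp.OpenPart

/-! Weil restrictions along finite purely inseparable extensions are locally of finite type. -/

set_option backward.isDefEq.respectTransparency false
set_option backward.isDefEq.respectTransparency.types false
set_option linter.style.haveILetI false

universe u

open CategoryTheory MonoidalCategory CartesianMonoidalCategory MonObj AlgebraicGeometry

namespace Groth.Agent.WeilCmp

open WeilAff

variable {k k' : Type u} [Field k] [Field k'] [Algebra k k'] [Module.Finite k k'] [IsPurelyInseparable k k']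

/-- The Weil restriction of a scheme locally of finite type is locally of finite type. -/
theorem locallyOfFiniteType_res {X' : Over (Spec (CommRingCat.of k'))} [LocallyOfFiniteType X'.hom]
    {R : Over (Spec (CommRingCat.of k))} {q : Red.bc (sig k k') R ⟶ X'}
    (hR : WeilRes.IsWeilRes (sig k k') X' R q) : LocallyOfFiniteType R.hom := by
  haveI : Surjective (sig k k') :=
    ⟨Function.surjective_to_subsingleton (α := Spec (CommRingCat.of k')) (β := Spec (CommRingCat.of k)) _⟩
  let p : (Red.bc (sig k k') R).left ⟶ R.left := Limits.pullback.fst R.hom (sig k k')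
  haveI : Surjective p := inferInstanceAs (Surjective (Limits.pullback.fst R.hom (sig k k')))
  have key : ∀ x : R.left, ∃ V : R.left.Opens, x ∈ V ∧ LocallyOfFiniteType (V.ι ≫ R.hom) := by
    intro x
    obtain ⟨z, rfl⟩ := p.surjective x
    obtain ⟨U, hU, hzU, -⟩ := exists_isAffineOpen_mem_and_subset (X := X'.left) (x := q.left z) (U := ⊤) trivial
    haveI : IsAffine (U : Scheme.{u}) := hU
    let Uo : Over (Spec (CommRingCat.of k')) := Over.mk (U.ι ≫ X'.hom)
    haveI : IsAffine Uo.left := hU
    haveI : LocallyOfFiniteType Uo.hom := inferInstanceAs (LocallyOfFiniteType (U.ι ≫ X'.hom))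
    obtain ⟨RU, j, qU, hj, hRU, -, hrange⟩ := exists_openRes q hR U
    obtain ⟨O, _, _, ⟨iX⟩⟩ := exists_coord Uo
    haveI := finitePresentation_S iX
    obtain ⟨Q, _, _, hQ, univ, hu, iRU, -⟩ := exists_rep iX RU
      (fun Y => Equiv.ofBijective _ (hRU Y)) (fun Y Z h g => WeilRes.restr_comp _ qU h g)
    haveI : IsIso iRU.hom.left := inferInstanceAs (IsIso ((Over.forget _).map iRU.hom))
    haveI : LocallyOfFiniteType RU.hom := by
      rw [← Over.w iRU.hom]
      have h : LocallyOfFiniteType (Spec.map (CommRingCat.ofHom (algebraMap k Q))) := by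
        rw [HasRingHomProperty.Spec_iff (P := @LocallyOfFiniteType)]
        exact RingHom.finiteType_algebraMap.mpr inferInstance
      exact inferInstanceAs (LocallyOfFiniteType (iRU.hom.left ≫ Spec.map (CommRingCat.ofHom (algebraMap k Q))))
    haveI := hj
    obtain ⟨w, hw⟩ := hrange z hzU
    refine ⟨j.left.opensRange, ⟨Limits.pullback.fst RU.hom (sig k k') w, ?_⟩, ?_⟩
    · show j.left (Limits.pullback.fst RU.hom (sig k k') w) = p z
      rw [← hw]
      show (Limits.pullback.fst RU.hom (sig k k') ≫ j.left) w = (((Over.pullback (sig k k')).map j).left ≫ p) w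
      rw [show ((Over.pullback (sig k k')).map j).left ≫ p = Limits.pullback.fst RU.hom (sig k k') ≫ j.left from
        Limits.pullback.lift_fst _ _ _]
      rfl
    · rw [← MorphismProperty.cancel_left_of_respectsIso (P := @LocallyOfFiniteType) j.left.isoOpensRange.hom,
        ← Category.assoc, Scheme.Hom.isoOpensRange_hom_ι, Over.w j]
      infer_instance
  choose V hxV hV using key
  refine IsZariskiLocalAtSource.of_iSup_eq_top (P := @LocallyOfFiniteType) V ?_ hV
  exact top_le_iff.mp fun x _ => TopologicalSpace.Opens.mem_iSup.mpr ⟨x, hxV x⟩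

end Groth.Agent.WeilCmp
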