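import Groth.Agent.WeilCmp.Kernel
import Groth.Agent.WeilCmp.ResLft
import Groth.Agent.GrpSchLib.KernelGrp
import Groth.Agent.GrpSchLib.QuotAffine
import Groth.Agent.GrpSchLib.RankOneBig
import Groth.Agent.GrpSchLib.AntiAffineHom
import Groth.Agent.SrcDescent.SchemeFppf
import Groth.Agent.EtFound.Descent
import Groth.Prelude.Def_RedSub

/-! The quotient of a Weil restriction by the image of the comparison map is a quotient of the kernel of the counit. -/

set_option backward.isDefEq.respectTransparency false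
set_option backward.isDefEq.respectTransparency.types false
set_option linter.style.haveILetI false

universe u

open CategoryTheory MonoidalCategory CartesianMonoidalCategory MonObj AlgebraicGeometry

namespace Groth.Agent.WeilCmp

open WeilAff

variable {k k' : Type u} [Field k] [Field k'] [Algebra k k'] [Module.Finite k k'] [IsPurelyInseparable k k']
  {G H R : Over (Spec (CommRingCat.of k))} [GrpObj G] [LocallyOfFiniteType G.hom] [GrpObj H] [GrpObj R]
  {Gbar : Over (Spec (CommRingCat.of k'))} [GrpObj Gbar] [LocallyOfFiniteType Gbar.hom]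
  {qR : Red.bc (sig k k') R ⟶ Gbar} [IsMonHom qR] {j : H ⟶ R} [IsMonHom j] [IsClosedImmersion j.left]

/-- Multiplication `K × H' ⟶ R'` is a base change of the composite `H' ⟶ G'`. -/
theorem isPullback_prodMap {S : Scheme.{u}} {K R' H' G' : Over S} [GrpObj R'] [GrpObj G'] (iK : K ⟶ R') (r : R' ⟶ G')
    [IsMonHom r] (hK : AlgGrp.IsKernel iK r) (j' : H' ⟶ R') :
    IsPullback ((fst K H' ≫ iK) * (snd K H' ≫ j')) (snd K H') r (j' ≫ r) := by
  have hiK : iK ≫ r = 1 := hK.w.trans (by rw [Hom.one_def])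
  refine ⟨⟨?_⟩, ⟨Limits.PullbackCone.IsLimit.mk _ (fun s => ?_) (fun s => ?_) (fun s => ?_) (fun s m h1 h2 => ?_)⟩⟩
  · rw [MonObj.mul_comp, Category.assoc, hiK, MonObj.comp_one, _root_.one_mul, Category.assoc]
  · refine lift (hK.lift (s.fst * (s.snd ≫ j')⁻¹) (toUnit _) ?_) s.snd
    rw [MonObj.mul_comp, GrpObj.inv_comp, s.condition, Category.assoc, mul_inv_cancel, Hom.one_def]
  · rw [MonObj.comp_mul, lift_fst_assoc, lift_snd_assoc, hK.lift_fst, inv_mul_cancel_right]
  · rw [lift_snd]
  · refine CartesianMonoidalCategory.hom_ext _ _ (hK.hom_ext ?_ (toUnit_unique _ _)) (by rw [lift_snd]; exact h2)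
    rw [lift_fst, hK.lift_fst, ← h1, MonObj.comp_mul, ← Category.assoc, ← Category.assoc, h2,
      mul_inv_cancel_right, Category.assoc]

variable {Q : Over (Spec (CommRingCat.of k))} [GrpObj Q] {π : R ⟶ Q} [IsMonHom π]

/-- The data carried by the kernel of the counit: it covers the quotient. -/
theorem exists_cover (q : Red.bc (sig k k') G ⟶ Gbar) [Surjective q.left] [Flat q.left]
    (hR : WeilRes.IsWeilRes (sig k k') Gbar R qR) {p : G ⟶ H} [Surjective p.left] [Flat p.left]
    (hfac : p ≫ j = hR.lift G q) (hQ : RedSub.IsQuotient j π) :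
    ∃ (K : Over (Spec (CommRingCat.of k'))) (_ : GrpObj K) (iK : K ⟶ Red.bc (sig k k') R) (_ : IsMonHom iK),
      AlgGrp.IsKernel iK qR ∧ IsAffine K.left ∧ LocallyOfFiniteType K.hom ∧ LocallyOfFiniteType Q.hom ∧
      Surjective (iK ≫ (Over.pullback (sig k k')).map π).left ∧ Flat (iK ≫ (Over.pullback (sig k k')).map π).left := by
  obtain ⟨hπs, hπf, hπp, hπsq⟩ := hQ
  haveI := hπs
  haveI := hπf
  haveI := hπp
  let F := Over.pullback (sig k k')
  haveI lR : LocallyOfFiniteType R.hom := locallyOfFiniteType_res hR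
  haveI : LocallyOfFiniteType H.hom := by rw [← Over.w j]; infer_instance
  haveI : LocallyOfFiniteType (π.left ≫ Q.hom) := by rw [Over.w π]; infer_instance
  have lQ : LocallyOfFiniteType Q.hom := SrcDescent.locallyOfFiniteType_of_fppf_comp π.left Q.hom
  let bcH : Over (Spec (CommRingCat.of k')) := F.obj H
  let ρ : bcH ⟶ Gbar := F.map j ≫ qR
  have hρ : F.map p ≫ ρ = q := by
    show F.map p ≫ F.map j ≫ qR = q
    rw [← Category.assoc, ← Functor.map_comp, hfac]
    exact hR.restr_lift G q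
  haveI : LocallyOfFiniteType bcH.hom :=
    inferInstanceAs (LocallyOfFiniteType (Limits.pullback.snd H.hom (sig k k')))
  haveI : Surjective (F.map p).left := MorphismProperty.baseChange_map (P := @Surjective) (sig k k') p ‹_›
  haveI : Flat (F.map p).left := MorphismProperty.baseChange_map (P := @Flat) (sig k k') p ‹_›
  have hρl : (F.map p).left ≫ ρ.left = q.left := congrArg (·.left) hρ
  haveI : Flat ((F.map p).left ≫ ρ.left) := by rw [hρl]; infer_instance
  haveI : Surjective ((F.map p).left ≫ ρ.left) := by rw [hρl]; infer_instance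
  haveI : Flat ρ.left := GrpSchLib.RankOne.flat_of_comp (F.map p).left ρ.left
  haveI : Surjective ρ.left := Surjective.of_comp (F.map p).left ρ.left
  haveI : IsSeparated Gbar.hom := GrpSchLib.AntiAffine.isSeparated_grp Gbar
  obtain ⟨K, _, iK, hiK, -, -, hK⟩ := GrpSchLib.exists_kernel qR
  obtain ⟨hKa, hKl, -⟩ := exists_chartKernel hR hK
  haveI := hKa
  haveI := hKl
  let ψ : K ⟶ F.obj Q := iK ≫ F.map π
  let Φ : K ⊗ bcH ⟶ Red.bc (sig k k') R := (fst K bcH ≫ iK) * (snd K bcH ≫ F.map j)
  have hjπ : j ≫ π = 1 := by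
    have h := congrArg (fun f => lift (1 : H ⟶ R) (𝟙 H) ≫ f) hπsq.w
    simp only [lift_fst_assoc, MonObj.one_comp] at h
    have e : lift (1 : H ⟶ R) (𝟙 H) ≫ R ◁ j ≫ μ[R] = j := by
      rw [← Category.assoc, lift_whiskerLeft, ← Hom.mul_def, _root_.one_mul, Category.id_comp]
    rw [← Category.assoc _ _ π, e] at h
    exact h.symm
  have hFjπ : F.map j ≫ F.map π = 1 := by
    rw [← Functor.map_comp, hjπ]
    exact Functor.map_one _
  have hΦπ : Φ ≫ F.map π = fst K bcH ≫ ψ := by
    simp only [Φ, ψ, MonObj.mul_comp, Category.assoc]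
    rw [hFjπ, MonObj.comp_one, _root_.mul_one]
  have sq := ((isPullback_prodMap iK qR hK (F.map j)).map (Over.forget _)).flip
  haveI : Flat Φ.left := MorphismProperty.of_isPullback (P := @Flat) sq ‹Flat ρ.left›
  haveI : Surjective Φ.left := MorphismProperty.of_isPullback (P := @Surjective) sq ‹Surjective ρ.left›
  haveI : Flat (F.map π).left := MorphismProperty.baseChange_map (P := @Flat) (sig k k') π hπf
  haveI : Surjective (F.map π).left := MorphismProperty.baseChange_map (P := @Surjective) (sig k k') π hπs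
  have hl : (fst K bcH).left ≫ ψ.left = Φ.left ≫ (F.map π).left := congrArg (·.left) hΦπ.symm
  haveI : Flat ((fst K bcH).left ≫ ψ.left) := by rw [hl]; infer_instance
  haveI : Surjective ((fst K bcH).left ≫ ψ.left) := by rw [hl]; infer_instance
  haveI : Nonempty bcH.left := ⟨η[bcH].left (IsLocalRing.closedPoint k')⟩
  haveI : Surjective bcH.hom :=
    ⟨Function.surjective_to_subsingleton (α := bcH.left) (β := Spec (CommRingCat.of k')) _⟩
  haveI : Flat (fst K bcH).left := inferInstanceAs (Flat (Limits.pullback.fst K.hom bcH.hom))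
  haveI : Surjective (fst K bcH).left := inferInstanceAs (Surjective (Limits.pullback.fst K.hom bcH.hom))
  exact ⟨K, inferInstance, iK, hiK, hK, hKa, hKl, lQ, Surjective.of_comp (fst K bcH).left ψ.left,
    GrpSchLib.RankOne.flat_of_comp (fst K bcH).left ψ.left⟩

/-- The identity of the quotient is killed by any exponent killing the kernel. -/
theorem pow_eq_one_of_cover {K : Over (Spec (CommRingCat.of k'))} [GrpObj K]
    (ψ : K ⟶ Red.bc (sig k k') Q) [IsMonHom ψ] [Surjective ψ.left] [Flat ψ.left] (N : ℕ)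
    (h : (𝟙 K : K ⟶ K) ^ N = 1) : (𝟙 Q : Q ⟶ Q) ^ N = 1 := by
  haveI : Epi ψ.left := Flat.epi_of_flat_of_surjective ψ.left
  haveI : Epi ψ := Over.epi_of_epi_left ψ
  haveI : Surjective (sig k k') :=
    ⟨Function.surjective_to_subsingleton (α := Spec (CommRingCat.of k')) (β := Spec (CommRingCat.of k)) _⟩
  have h1 : (𝟙 (Red.bc (sig k k') Q) : Red.bc (sig k k') Q ⟶ _) ^ N = 1 := by
    let Pψ : (K ⟶ K) →* (K ⟶ Red.bc (sig k k') Q) := MonoidHom.mk' (fun g => g ≫ ψ) fun g g' => MonObj.mul_comp g g' ψ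
    have h2 : (𝟙 K ≫ ψ) ^ N = 1 := (map_pow Pψ (𝟙 K) N).symm.trans ((congrArg Pψ h).trans (map_one Pψ))
    rw [← cancel_epi ψ, MonObj.comp_pow, Category.comp_id, MonObj.comp_one]
    rwa [Category.id_comp] at h2
  apply (Over.pullback (sig k k')).map_injective
  refine (map_pow ((Over.pullback (sig k k')).homMonoidHom (X := Q) (M := Q)) (𝟙 Q) N).trans
    (Eq.trans ?_ (CategoryTheory.Functor.map_one _).symm)
  show ((Over.pullback (sig k k')).map (𝟙 Q)) ^ N = 1
  rw [CategoryTheory.Functor.map_id]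
  exact h1

/-- A group killed by a power of the characteristic has no geometric subtori. -/
theorem hasNoSubtorus_of_kill {K : Over (Spec (CommRingCat.of k))} [GrpObj K]
    (h : (𝟙 K : K ⟶ K) = 1 ∨ ∃ p n : ℕ, p.Prime ∧ CharP k p ∧ (𝟙 K : K ⟶ K) ^ p ^ n = 1)
    (Ω : Type u) [Field Ω] [IsAlgClosed Ω] (b : Spec (CommRingCat.of Ω) ⟶ Spec (CommRingCat.of k)) :
    Red.HasNoSubtorus Ω (Red.bc b K) := by
  intro T _ j _ _ hT
  have hN : ∀ N : ℕ, (𝟙 K : K ⟶ K) ^ N = 1 → (𝟙 T : T ⟶ T) ^ N = 1 := fun N h => by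
    have h1 : (𝟙 (Red.bc b K) : Red.bc b K ⟶ Red.bc b K) ^ N = 1 := by
      rw [← (Over.pullback b).map_id K]
      exact ((map_pow ((Over.pullback b).homMonoidHom (X := K) (M := K)) (𝟙 K) N).symm.trans
        ((congrArg _ h).trans (map_one _)))
    let Pj : (T ⟶ T) →* (T ⟶ Red.bc b K) := MonoidHom.mk' (fun g => g ≫ j) fun g g' => MonObj.mul_comp g g' j
    have h2 : Pj ((𝟙 T : T ⟶ T) ^ N) = Pj 1 := by
      rw [map_pow, map_one]
      show (𝟙 T ≫ j) ^ N = 1
      rw [Category.id_comp, ← Category.comp_id j, ← MonObj.comp_pow, h1, MonObj.comp_one]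
    exact (cancel_mono j).mp h2
  rcases h with h | ⟨p, n, hp, hchar, h⟩
  · have h1 : (𝟙 T : T ⟶ T) = 1 := by simpa using hN 1 (by rw [pow_one]; exact h)
    refine ⟨η[T].left, ?_, Over.w η[T]⟩
    have h2 := congrArg (·.left) (h1.trans (Hom.one_def))
    rw [Over.comp_left] at h2
    have h3 : (toUnit T).left = T.hom := (Category.comp_id _).symm.trans (Over.w (toUnit T))
    rw [h3] at h2
    exact h2.symm
  · obtain ⟨φ, -⟩ := Spec.map_surjective b
    haveI : CharP Ω p := charP_of_injective_ringHom φ.hom.injective p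
    haveI : Fact p.Prime := ⟨hp⟩
    exact S12182.isTrivialGrp_of_kill hT n (hN _ h)

/-- The quotient is affine, and killed by a power of the characteristic. -/
theorem quot_main (q : Red.bc (sig k k') G ⟶ Gbar) [Surjective q.left] [Flat q.left]
    (hR : WeilRes.IsWeilRes (sig k k') Gbar R qR) {p : G ⟶ H} [Surjective p.left] [Flat p.left]
    (hfac : p ≫ j = hR.lift G q) (hQ : RedSub.IsQuotient j π) :
    IsAffine Q.left ∧
      ((𝟙 Q : Q ⟶ Q) = 1 ∨ ∃ p n : ℕ, p.Prime ∧ CharP k p ∧ (𝟙 Q : Q ⟶ Q) ^ p ^ n = 1) := by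
  obtain ⟨K, _, iK, _, hK, hKa, hKl, lQ, hs, hf⟩ := exists_cover q hR hfac hQ
  haveI := hKa
  haveI := hKl
  haveI := lQ
  let ψ : K ⟶ Red.bc (sig k k') Q := iK ≫ (Over.pullback (sig k k')).map π
  haveI : Surjective ψ.left := hs
  haveI : Flat ψ.left := hf
  refine ⟨?_, ?_⟩
  · haveI : CompactSpace (Red.bc (sig k k') Q).left := ψ.left.surjective.compactSpace ψ.left.continuous
    haveI : QuasiCompact (Red.bc (sig k k') Q).hom := (quasiCompact_iff_compactSpace _).mpr inferInstance
    haveI : LocallyOfFiniteType (Red.bc (sig k k') Q).hom :=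
      inferInstanceAs (LocallyOfFiniteType (Limits.pullback.snd Q.hom (sig k k')))
    have hA : IsAffine (Red.bc (sig k k') Q).left := GrpSchLib.isAffine_of_quotient ψ
    haveI := sig_finite (k := k) (k' := k')
    haveI := EtFound.fpqc_isAffineHom.{u}
    haveI : IsAffineHom Q.hom := by
      refine MorphismProperty.of_pullback_snd_of_descendsAlong (P := @IsAffineHom)
        (Q := @Surjective ⊓ @Flat ⊓ @QuasiCompact) (g := sig k k') (f := Q.hom) ⟨⟨?_, ?_⟩, ?_⟩ ?_
      · exact ⟨Function.surjective_to_subsingleton (α := Spec (CommRingCat.of k')) (β := Spec (CommRingCat.of k)) _⟩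
      · infer_instance
      · infer_instance
      · show IsAffineHom (Red.bc (sig k k') Q).hom
        haveI := hA
        infer_instance
    exact isAffine_of_isAffineHom Q.hom
  · rcases pow_eq_one hR hK with h | ⟨p, n, hp, hchar, h⟩
    · exact Or.inl (by simpa using pow_eq_one_of_cover ψ 1 (by rw [pow_one]; exact h))
    · exact Or.inr ⟨p, n, hp, (Algebra.charP_iff k k' p).mpr hchar, pow_eq_one_of_cover ψ _ h⟩

end Groth.Agent.WeilCmp
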