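import Groth.Agent.AGFLib.ProjAct
import Groth.Agent.AGFLib.Hull
import Groth.Agent.AGFLib.Stable
import Groth.Agent.GrpSchLib.LineVec
import Groth.Agent.ComodLib.Orbits
import Groth.Agent.S7975

/-! Chevalley vectors and closed orbits for groups whose rational points act unipotently. -/

set_option backward.isDefEq.respectTransparency false
set_option backward.isDefEq.respectTransparency.types false
set_option linter.style.haveILetI false

universe u

open CategoryTheory MonoidalCategory CartesianMonoidalCategory MonObj AlgebraicGeometry WithConv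

namespace Groth.Agent.WeilCmp.Unip

open GrpSchLib GrpSchLib.Kunneth GrpSchLib.LineGroups AGFLib

variable {k : Type u} [Field k]

local notation "PT" => 𝟙_ (Over (Spec (CommRingCat.of k)))

/-- The value of a function at a rational point. -/
noncomputable def vl {X : Over (Spec (CommRingCat.of k))} (g : 𝟙_ (Over (Spec (CommRingCat.of k))) ⟶ X) :
    Fn X →ₐ[k] k :=
  (ProjAct.toK (k := k)).toAlgHom.comp (ev g)

theorem vl_ev {X Y : Over (Spec (CommRingCat.of k))} (g : PT ⟶ X) (m : X ⟶ Y) (f : Fn Y) :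
    vl g (ev m f) = vl (g ≫ m) f := rfl

variable {U : Over (Spec (CommRingCat.of k))} [GrpObj U]

/-- Left translation of functions by a rational point. -/
noncomputable def lt (y : 𝟙_ (Over (Spec (CommRingCat.of k))) ⟶ U) : Fn U →ₐ[k] Fn U :=
  ev ((toUnit U ≫ y) * 𝟙 U)

theorem vl_lt (g y : PT ⟶ U) (f : Fn U) : vl g (lt y f) = vl (y * g) f := by
  rw [lt, vl_ev, MonObj.comp_mul, Category.comp_id, ← Category.assoc, toUnit_unique (g ≫ toUnit U) (𝟙 _),
    Category.id_comp]

omit [GrpObj U] in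
theorem eq_of_vl [IsAlgClosed k] [IsAffine U.left] [LocallyOfFiniteType U.hom] [IsReduced U.left] {f f' : Fn U}
    (h : ∀ g : PT ⟶ U, vl g f = vl g f') : f = f' := by
  refine AGFLib.eq_of_pts fun x => ?_
  have hx : x = toUnit (VecGrp.pt k k) ≫ toPt PT ≫ x := by
    rw [← Category.assoc, hom_pt_ext (toUnit (VecGrp.pt k k) ≫ toPt PT), ← hom_pt_ext (𝟙 _), Category.id_comp]
  have h1 := (ProjAct.toK (k := k)).injective (h (toPt PT ≫ x))
  rw [hx]
  have := congrArg (ev (toUnit (VecGrp.pt k k))) h1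
  exact ((ev_ev _ _ _).symm.trans this).trans (ev_ev _ _ _)

omit [GrpObj U] in
theorem exists_pt [IsAffine U.left] (ψ : Fn U →ₐ[k] k) : ∃ g : PT ⟶ U, vl g = ψ := by
  obtain ⟨g, hg⟩ := exists_hom_ev (T := PT) (X := U) ((Algebra.ofId k (Fn PT)).comp ψ)
  refine ⟨g, AlgHom.ext fun f => ?_⟩
  show ProjAct.toK (ev g f) = ψ f
  rw [hg]
  exact ProjAct.toK_algebraMap _

/-- A vector of functions whose stabiliser on rational points is a given subgroup, up to scalars. -/
theorem exists_line_vec {L : Over (Spec (CommRingCat.of k))} [GrpObj L] [IsAffine U.left] [LocallyOfFiniteType U.hom]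
    (i : L ⟶ U) [IsMonHom i] [IsClosedImmersion i.left] :
    ∃ (ι₀ : Type) (_ : Fintype ι₀) (z : ι₀ → Fn U) (M : ι₀ → ι₀ → Fn U),
      (∀ (g h : PT ⟶ U) (x : ι₀), vl (g * h) (z x) = ∑ s, vl g (M x s) * vl h (z s)) ∧
      (∃ x, vl 1 (z x) ≠ 0) ∧
      (∀ h : PT ⟶ U, (∀ x, vl h (z x) = vl 1 (z x)) → ∃ l : PT ⟶ L, l ≫ i = h) ∧
      (∀ l : PT ⟶ L, ∃ c : k, ∀ x, vl (l ≫ i) (z x) = c * vl 1 (z x)) := by
  classical
  haveI : IsAffine L.left := isAffine_of_isAffineHom i.left
  obtain ⟨A, _, _, ⟨eG⟩⟩ := AffineHopf.exists_hopf U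
  obtain ⟨B, _, _, ⟨eN⟩⟩ := AffineHopf.exists_hopf L
  let a : AffineHopf.sp k A ≅ U := (Grp.forget _).mapIso eG
  let b : AffineHopf.sp k B ≅ L := (Grp.forget _).mapIso eN
  haveI : IsMonHom a.hom := eG.hom.hom.isMonHom_hom
  haveI : IsMonHom a.inv := eG.inv.hom.isMonHom_hom
  haveI : IsMonHom b.hom := eN.hom.hom.isMonHom_hom
  haveI : IsIso a.hom.left := ((Over.forget _).mapIso a).isIso_hom
  haveI : IsIso a.inv.left := ((Over.forget _).mapIso a).isIso_inv
  haveI : IsIso b.hom.left := ((Over.forget _).mapIso b).isIso_hom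
  haveI : Algebra.FiniteType k A := RingHom.finiteType_algebraMap.mp
    ((HasRingHomProperty.Spec_iff (P := @LocallyOfFiniteType)).mp (by
      show LocallyOfFiniteType (AffineHopf.sp k A).hom
      rw [← Over.w a.hom]; infer_instance))
  obtain ⟨π, hπ⟩ := AffineHopf.exists_bialgHom (b.hom ≫ i ≫ a.inv)
  have hsurj : Function.Surjective π := AffineHopf.surjective_of_isClosedImmersion (π : A →ₐ[k] B) (by
    rw [← hπ, Over.comp_left, Over.comp_left]; infer_instance)
  obtain ⟨d, e, M₀, hM, hblock, hkill⟩ := ComodLib.exists_block_matrix π hsurj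
  let i₀ : Fin d → Fin d ⊕ Fin e := Sum.inl
  let M₁ := ComodLib.powMatrix M₀ d
  have hM₁ : ComodLib.IsComodMatrix k M₁ := hM.powMatrix d
  let v₁ := ComodLib.minorVec k i₀
  have hv₁ : v₁ i₀ = 1 := ComodLib.minorVec_self Sum.inl_injective
  obtain ⟨χ, -, heig⟩ := ComodLib.orbit_block hM π hblock
  let φ : A ≃ₐ[k] Fn U := (LineVec.toFn (k := k) (A := A)).trans (fnEquiv a.symm)
  have hev : ∀ (g : PT ⟶ U) (x : A), ev g (φ x) = LineVec.fn (g ≫ a.inv) x := fun g x => rfl
  have hone : ∀ x, ev (1 : PT ⟶ U) (φ (ComodLib.orbit k M₁ v₁ x)) = algebraMap k _ (v₁ x) := fun x => by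
    rw [hev, MonObj.one_comp]
    exact LineVec.fn_one_orbit hM₁ _ v₁ x
  refine ⟨Fin d → Fin d ⊕ Fin e, inferInstance, fun x => φ (ComodLib.orbit k M₁ v₁ x),
    fun x s => φ (M₁ x s), fun g h x => ?_, ⟨i₀, ?_⟩, fun h hh => ?_, fun l => ?_⟩
  · show ProjAct.toK (ev (g * h) _) = ∑ s, ProjAct.toK (ev g _) * ProjAct.toK (ev h _)
    simp only [hev, MonObj.mul_comp, LineVec.fn_mul_orbit hM₁, map_sum, map_mul]
  · show ProjAct.toK (ev (1 : PT ⟶ U) _) ≠ 0
    rw [hone, ProjAct.toK_algebraMap, hv₁]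
    exact one_ne_zero
  · have hy : ∀ x, LineVec.fn (h ≫ a.inv) (ComodLib.orbit k M₁ v₁ x) = algebraMap k _ (v₁ x) := fun x => by
      rw [← hev, ← hone]
      exact (ProjAct.toK (k := k)).injective (hh x)
    have hker := hkill (Fn PT) (LineVec.fn (h ≫ a.inv)) fun r m =>
      ComodLib.eq_zero_of_minors ((Matrix.of M₀).map (LineVec.fn (h ≫ a.inv))) 1 isUnit_one
        (fun j => (ComodLib.map_orbit_minorVec M₀ (LineVec.fn (h ≫ a.inv)) j).symm.trans
          ((hy j).trans (by rw [Algebra.algebraMap_eq_smul_one]))) r m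
    let f : B →ₐ[k] Fn PT := AlgHom.liftOfSurjective (π : A →ₐ[k] B) hsurj (LineVec.fn (h ≫ a.inv))
      fun x hx => hker x hx
    refine ⟨(LineVec.aff PT ≫ AffineHopf.spMap f) ≫ b.hom, ?_⟩
    have h2 : (LineVec.aff PT ≫ AffineHopf.spMap f) ≫ AffineHopf.spMap (π : A →ₐ[k] B) = h ≫ a.inv := by
      refine LineVec.fn_injective ?_
      rw [Category.assoc, AffineHopf.spMap_comp, LineVec.fn_aff]
      exact AlgHom.liftOfSurjective_comp _ _ _ _
    rw [← cancel_mono a.inv, ← h2, ← hπ]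
    simp only [Category.assoc]
  · refine ⟨ProjAct.toK (LineVec.fn (l ≫ b.inv) χ), fun x => ?_⟩
    show ProjAct.toK (ev (l ≫ i) _) = _ * ProjAct.toK (ev (1 : PT ⟶ U) _)
    have hl : (l ≫ i) ≫ a.inv = (l ≫ b.inv) ≫ AffineHopf.spMap (π : A →ₐ[k] B) := by
      rw [← hπ]; simp
    have hy : LineVec.fn ((l ≫ b.inv) ≫ AffineHopf.spMap (π : A →ₐ[k] B)) (ComodLib.orbit k M₁ v₁ x) =
        algebraMap k _ (v₁ x) * LineVec.fn (l ≫ b.inv) χ := by
      rw [← LineVec.aff_fn (l ≫ b.inv), Category.assoc, AffineHopf.spMap_comp, LineVec.fn_aff, LineVec.fn_aff]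
      show LineVec.fn (l ≫ b.inv) (π (ComodLib.orbit k M₁ v₁ x)) = _
      rw [heig, map_smul, Algebra.smul_def]
    rw [hev, hl, hy, hone, map_mul, ProjAct.toK_algebraMap, _root_.mul_comm]

variable [IsAlgClosed k]

/-- When all rational points are killed by an exponent forcing unipotence, every rational point of the closure of an orbit
is in the orbit. -/
theorem exists_pt_of_algHom [IsAffine U.left] [LocallyOfFiniteType U.hom] [IsReduced U.left]
    (B : Subalgebra k (Fn U)) (hfg : B.FG) (hB : ∀ (y : PT ⟶ U), ∀ f ∈ B, lt y f ∈ B) (q : ℕ)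
    (htor : ∀ y : PT ⟶ U, y ^ q = 1)
    (hnil : ∀ (R : Type u) [Ring R] [Algebra k R] (x : R), x ^ q = 1 → IsNilpotent (x - 1))
    (β : B →ₐ[k] k) : ∃ g : PT ⟶ U, ∀ f : B, vl g (f : Fn U) = β f := by
  classical
  by_contra hβ
  let Bd : Set (B →ₐ[k] k) := {pb | ¬ ∃ g : PT ⟶ U, ∀ f : B, vl g (f : Fn U) = pb f}
  haveI : Algebra.FiniteType k B := (Subalgebra.fg_iff_finiteType B).mp hfg
  haveI : Algebra.FiniteType k (Fn U) := AGFLib.finiteType_fn U
  haveI : IsNoetherianRing B := Algebra.FiniteType.isNoetherianRing k B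
  haveI : Nontrivial (Fn U) := (vl (1 : PT ⟶ U)).toRingHom.domain_nontrivial
  have hfp : B.val.toRingHom.FinitePresentation := by
    refine RingHom.FinitePresentation.of_finiteType.mp ?_
    exact RingHom.FiniteType.of_comp_finiteType (f := algebraMap k B)
      (show (algebraMap k (Fn U)).FiniteType from RingHom.finiteType_algebraMap.mpr inferInstance)
  obtain ⟨b, hb, hbr⟩ := ComodLib.exists_basicOpen_subset_range B.val.toRingHom hfp Subtype.val_injective
  have hbv : ∀ pb ∈ Bd, pb b = 0 := fun pb hpb => by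
    by_contra h0
    obtain ⟨ψ, hψ⟩ := ComodLib.exists_lift_of_mem_range B.val pb
      (hbr ⟨RingHom.ker pb, RingHom.ker_isPrime _⟩ fun h => h0 h)
    obtain ⟨g, hg⟩ := exists_pt ψ
    exact hpb ⟨g, fun f => by rw [hg, ← hψ]; rfl⟩
  let T : (PT ⟶ U) → (B →ₐ[k] B) := fun y => ((lt y).comp B.val).codRestrict B fun f => hB y f f.2
  have hTv : ∀ y f, ((T y f : B) : Fn U) = lt y (f : Fn U) := fun _ _ => rfl
  have hTT : ∀ y y' f, T y (T y' f) = T (y' * y) f := fun y y' f => Subtype.ext (eq_of_vl fun g => by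
    simp only [hTv, vl_lt, _root_.mul_assoc])
  have hT1 : ∀ f, T 1 f = f := fun f => Subtype.ext (eq_of_vl fun g => by rw [hTv, vl_lt, _root_.one_mul])
  let J : Submodule k B := ⨅ pb ∈ Bd, LinearMap.ker pb.toLinearMap
  have hJ : ∀ f : B, f ∈ J ↔ ∀ pb ∈ Bd, pb f = 0 := fun f => by
    simp only [J, Submodule.mem_iInf, LinearMap.mem_ker, AlgHom.toLinearMap_apply]
  have hJT : ∀ y f, f ∈ J → T y f ∈ J := fun y f hf => (hJ _).mpr fun pb hpb => by
    refine (hJ f).mp hf (pb.comp (T y)) fun ⟨g, hg⟩ => hpb ⟨y⁻¹ * g, fun f' => ?_⟩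
    have h1 := hg (T y⁻¹ f')
    rw [AlgHom.comp_apply, hTT, inv_mul_cancel, hT1, hTv, vl_lt] at h1
    exact h1
  let W : Submodule k B := Submodule.span k (Set.range fun y => T y b)
  have hWT : ∀ y f, f ∈ W → T y f ∈ W := fun y => by
    have : W ≤ W.comap (T y).toLinearMap := Submodule.span_le.mpr (by
      rintro _ ⟨y', rfl⟩
      show T y (T y' b) ∈ W
      rw [hTT]
      exact Submodule.subset_span ⟨_, rfl⟩)
    exact this
  haveI : Module.Finite k W := by
    obtain ⟨n, w, N, -, -, hFw, hw⟩ := exists_stable (G := U) {(b : Fn U)}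
    obtain ⟨c, hc⟩ := (Submodule.mem_span_range_iff_exists_fun k).mp (hFw (Finset.mem_coe.mpr (Finset.mem_singleton_self _)))
    let V : Submodule k (Fn U) := Submodule.span k (Set.range fun p : Fin n × Fin n => N p.1 p.2)
    haveI : Module.Finite k V := Module.Finite.span_of_finite k (Set.finite_range _)
    have hlt : ∀ (y : PT ⟶ U) j, lt y (w j) ∈ V := fun y j => by
      have : lt y (w j) = ∑ l, vl y (w l) • N l j := eq_of_vl fun g => by
        rw [vl_lt, map_sum]
        show ProjAct.toK (ev (y * g) (w j)) = _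
        rw [hw, map_sum]
        exact Finset.sum_congr rfl fun l _ => by rw [map_smul, map_mul, smul_eq_mul]; rfl
      rw [this]
      exact Submodule.sum_mem _ fun l _ => Submodule.smul_mem _ _ (Submodule.subset_span ⟨(l, j), rfl⟩)
    have hWV : ∀ f : B, f ∈ W → (f : Fn U) ∈ V := fun f hf => by
      have : W ≤ V.comap B.val.toLinearMap := Submodule.span_le.mpr (by
        rintro _ ⟨y, rfl⟩
        show lt y (b : Fn U) ∈ V
        rw [← hc, map_sum]
        exact Submodule.sum_mem _ fun j _ => by rw [map_smul]; exact Submodule.smul_mem _ _ (hlt y j))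
      exact this hf
    exact Module.Finite.of_injective ((B.val.toLinearMap.comp W.subtype).codRestrict V fun f => hWV f.1 f.2)
      fun f f' h => Subtype.ext (Subtype.ext (congrArg (fun v : V => (v : Fn U)) h))
  let ρ : Representation k (PT ⟶ U) W :=
    { toFun := fun y => (T y⁻¹).toLinearMap.restrict (fun f hf => hWT y⁻¹ f hf)
      map_one' := LinearMap.ext fun f => Subtype.ext (by
        show T (1 : PT ⟶ U)⁻¹ f.1 = f.1
        rw [inv_one, hT1])
      map_mul' := fun y y' => LinearMap.ext fun f => Subtype.ext (by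
        show T (y * y')⁻¹ f.1 = T y⁻¹ (T y'⁻¹ f.1)
        rw [hTT, _root_.mul_inv_rev]) }
  have hbW : b ∈ W := Submodule.subset_span ⟨1, hT1 b⟩
  haveI : Nontrivial W := ⟨⟨⟨b, hbW⟩, 0, fun h => hb (by rw [show b = 0 from congrArg Subtype.val h]; exact IsNilpotent.zero)⟩⟩
  obtain ⟨w, hw0, hw⟩ := Groth.Agent.S7975.result k (PT ⟶ U) W ρ fun y => hnil (Module.End k W) (ρ y) (by
    rw [← map_pow, htor, map_one])
  have hconst : ((w : B) : Fn U) = algebraMap k (Fn U) (vl (1 : PT ⟶ U) ((w : B) : Fn U)) := eq_of_vl fun g => by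
    rw [AlgHom.commutes, Algebra.algebraMap_self_apply]
    have h1 : T g⁻¹⁻¹ (w : B) = (w : B) := congrArg Subtype.val (hw g⁻¹)
    rw [_root_.inv_inv] at h1
    conv_rhs => rw [← h1, hTv, vl_lt, _root_.mul_one]
  have hwJ : (w : B) ∈ J := by
    have : W ≤ J := Submodule.span_le.mpr (by
      rintro _ ⟨y, rfl⟩
      exact hJT y b ((hJ b).mpr hbv))
    exact this w.2
  have h0 : β (w : B) = 0 := (hJ _).mp hwJ β hβ
  have hwB : (w : B) = algebraMap k B (vl (1 : PT ⟶ U) ((w : B) : Fn U)) := Subtype.ext hconst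
  rw [hwB, AlgHom.commutes, Algebra.algebraMap_self_apply] at h0
  exact hw0 (Subtype.ext (by rw [hwB, h0, map_zero]; rfl))

end Groth.Agent.WeilCmp.Unip
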